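import Groth.Agent.Lib.Dim.Ring
import Mathlib.RingTheory.RingHom.Finite

/-! Dimension of the components of a product of two affine varieties. -/

universe u

open TensorProduct

namespace GrothLib.DimProd

variable (k : Type u) [Field k] (A B : Type u) [CommRing A] [Algebra k A] [Algebra.FiniteType k A]
  [IsDomain A] [CommRing B] [Algebra k B] [Algebra.FiniteType k B] [IsDomain B]

theorem ringKrullDim_quotient_minimalPrime_tensor (q : Ideal (A ⊗[k] B)) (hq : q ∈ minimalPrimes (A ⊗[k] B)) :
    ringKrullDim ((A ⊗[k] B) ⧸ q) = ringKrullDim A + ringKrullDim B := by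
  classical
  obtain ⟨n, g, hinj, hfin⟩ := exists_finite_inj_algHom_of_fg k A
  obtain ⟨m, h, hinj', hfin'⟩ := exists_finite_inj_algHom_of_fg k B
  let P := MvPolynomial (Fin n) k
  let Q := MvPolynomial (Fin m) k
  algebraize [g.toRingHom, h.toRingHom]
  have : IsScalarTower k P A := IsScalarTower.of_algebraMap_eq fun x => (g.commutes x).symm
  have : IsScalarTower k Q B := IsScalarTower.of_algebraMap_eq fun x => (h.commutes x).symm
  have : Module.Finite P A := hfin
  have : Module.Finite Q B := hfin'
  have : FaithfulSMul P A := (faithfulSMul_iff_algebraMap_injective _ _).2 hinj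
  have : FaithfulSMul Q B := (faithfulSMul_iff_algebraMap_injective _ _).2 hinj'
  let φ : P ⊗[k] Q →ₐ[k] A ⊗[k] B := Algebra.TensorProduct.map g h
  obtain ⟨ι, hι, fA, hfA⟩ := Dim.exists_injective_linearMap_pi (P := P) (M := A)
  obtain ⟨κ, hκ, fB, hfB⟩ := Dim.exists_injective_linearMap_pi (P := Q) (M := B)
  let f' := TensorProduct.map (fA.restrictScalars k) (fB.restrictScalars k)
  have hf' : Function.Injective f' := TensorProduct.map_injective_of_flat_flat _ _ hfA hfB
  let co : ι → κ → (A ⊗[k] B →ₗ[k] P ⊗[k] Q) := fun i j =>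
    TensorProduct.map ((LinearMap.proj i ∘ₗ fA).restrictScalars k) ((LinearMap.proj j ∘ₗ fB).restrictScalars k)
  have hcof : ∀ x, (∀ i j, co i j x = 0) → x = 0 := by
    intro x hx
    refine hf' ?_
    rw [map_zero]
    refine (TensorProduct.piLeft k (N := κ → Q) (M := fun _ : ι => P)).injective ?_
    rw [map_zero]
    funext i
    refine (TensorProduct.piRight k k P (fun _ : κ => Q)).injective ?_
    rw [Pi.zero_apply, map_zero]
    funext j
    rw [Pi.zero_apply, ← hx i j]
    clear hx
    induction x with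
    | zero => simp only [map_zero, Pi.zero_apply]
    | add x y hx hy => simp only [map_add, Pi.add_apply, hx, hy]
    | tmul a b => simp [f', co]
  have hlin : ∀ (p : P ⊗[k] Q) (x : A ⊗[k] B) i j, co i j (φ p * x) = p * co i j x := by
    intro p x i j
    induction p with
    | zero => simp only [map_zero, zero_mul]
    | add p₁ p₂ h₁ h₂ => simp only [map_add, add_mul, h₁, h₂]
    | tmul c d =>
      induction x with
      | zero => simp only [map_zero, mul_zero]
      | add x₁ x₂ h₁ h₂ => simp only [mul_add, map_add, h₁, h₂]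
      | tmul a b =>
        have h1 : g c * a = c • a := (Algebra.smul_def c a).symm
        have h2 : h d * b = d • b := (Algebra.smul_def d b).symm
        simp [φ, co, h1, h2]
  let e : P ⊗[k] Q ≃ₐ[k] MvPolynomial (Fin n ⊕ Fin m) k :=
    (MvPolynomial.tensorEquivSum k (Fin n) (Fin m) k)
  have hdom : IsDomain (P ⊗[k] Q) := e.toRingEquiv.toMulEquiv.isDomain _
  have hnz : ∀ p : P ⊗[k] Q, p ≠ 0 → φ p ∈ nonZeroDivisors (A ⊗[k] B) := by
    intro p hp
    refine mem_nonZeroDivisors_iff_right.2 fun x hx => hcof x fun i j => ?_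
    have h1 := hlin p x i j
    rw [mul_comm, hx, map_zero] at h1
    exact (mul_eq_zero.1 h1.symm).resolve_left hp
  have hφ : φ.toRingHom.Finite := RingHom.Finite.tensorProductMap (f := g) (g := h) hfin hfin'
  algebraize [φ.toRingHom]
  have : Module.Finite (P ⊗[k] Q) (A ⊗[k] B) := hφ
  have : q.IsPrime := hq.1.1
  have hker : Function.Injective (algebraMap (P ⊗[k] Q) ((A ⊗[k] B) ⧸ q)) := by
    refine (injective_iff_map_eq_zero _).2 fun p hp => ?_
    by_contra hne
    exact notMem_nonZeroDivisors_of_mem_mem_minimalPrimes (Ideal.Quotient.eq_zero_iff_mem.1 hp) hq (hnz p hne)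
  rw [Dim.ringKrullDim_eq_of_isIntegral hker, ringKrullDim_eq_of_ringEquiv e.toRingEquiv,
    Dim.ringKrullDim_eq_of_isIntegral (R := P) hinj, Dim.ringKrullDim_eq_of_isIntegral (R := Q) hinj',
    MvPolynomial.ringKrullDim_of_isNoetherianRing, MvPolynomial.ringKrullDim_of_isNoetherianRing,
    MvPolynomial.ringKrullDim_of_isNoetherianRing, ringKrullDim_eq_zero_of_field]
  simp

end GrothLib.DimProd
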